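import Groth.Agent.RatBlow.Powers
import Groth.Agent.StrictRat.Birat

/-!
Rational singularities: the base of a modification.
-/

set_option autoImplicit false
set_option backward.isDefEq.respectTransparency false
set_option backward.isDefEq.respectTransparency.types false
set_option linter.style.haveILetI false
set_option linter.unusedSectionVars false

universe u

open CategoryTheory CategoryTheory.Limits AlgebraicGeometry TopologicalSpace
open Groth.Agent.QC (resO resO_resO mem_range_idealModι_affine)

noncomputable section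

namespace Groth.Agent.RatBlow

variable {A : Type u} [CommRing A]

theorem isNormal_spec [IsDomain A] [IsIntegrallyClosed A] : Pi1.IsNormalScheme (Spec (CommRingCat.of A)) := fun x => by
  refine ⟨inferInstance, ?_⟩
  haveI : IsIntegrallyClosed (Localization.AtPrime x.asIdeal) :=
    isIntegrallyClosed_of_isLocalization _ x.asIdeal.primeCompl x.asIdeal.primeCompl_le_nonZeroDivisors
  letI : Algebra A ↑((Spec (CommRingCat.of A)).presheaf.stalk x) := StructureSheaf.stalkAlgebra A x
  haveI : IsLocalization.AtPrime ↑((Spec (CommRingCat.of A)).presheaf.stalk x) x.asIdeal :=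
    StructureSheaf.IsLocalization.to_stalk A x
  exact isIntegrallyClosed_of_isLocalization _ x.asIdeal.primeCompl
    x.asIdeal.primeCompl_le_nonZeroDivisors

variable {X : Scheme.{u}} (f : X ⟶ Spec (CommRingCat.of A))

theorem el_top_bijective [IsDomain A] [IsIntegrallyClosed A] [IsProper f] [IsIntegral X]
    (hbir : ∃ U : (Spec (CommRingCat.of A)).Opens, (U : Set (Spec (CommRingCat.of A))).Nonempty ∧ IsIso (f ∣_ U)) :
    Function.Bijective (el f (⊤ : X.Opens)) := by
  obtain ⟨U, hU, hiso⟩ := hbir
  haveI := hiso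
  haveI := StrictRat.isIso_app f (isNormal_spec (A := A)) U hU ⊤
  have h1 : Function.Bijective f.appTop := ConcreteCategory.bijective_of_isIso (f.app ⊤)
  have h2 : Function.Bijective (Scheme.ΓSpecIso (CommRingCat.of A)).inv :=
    ConcreteCategory.bijective_of_isIso _
  convert h1.comp h2 using 1
  funext a
  exact Groth.Agent.QC.resO_self _ _ 

theorem exists_over [IsDomain A] [IsProper f] [IsIntegral X]
    (hbir : ∃ U : (Spec (CommRingCat.of A)).Opens, (U : Set (Spec (CommRingCat.of A))).Nonempty ∧ IsIso (f ∣_ U))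
    (y : Spec (CommRingCat.of A)) : ∃ x : X, f x = y := by
  obtain ⟨U, hU, hiso⟩ := hbir
  haveI := hiso
  have hgen := StrictRat.map_genericPoint' f U hU
  have hr : IsClosed (Set.range f) := f.isClosedMap.isClosed_range
  have hη : genericPoint (Spec (CommRingCat.of A)) ∈ Set.range f := ⟨_, hgen⟩
  exact ((genericPoint_spec (Spec (CommRingCat.of A))).mem_closed_set_iff hr).1 hη (Set.mem_univ y)

/-- An element whose value generates the unit ideal near the closed fibre is a unit. -/
theorem mem_of_range [IsLocalRing A] [IsProper f]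
    (hover : ∃ x : X, f x = IsLocalRing.closedPoint A) (b : A)
    (hb : el f (⊤ : X.Opens) b ∈ Set.range (KoszSh.secForm (ClSub.idealModι (idl f (IsLocalRing.maximalIdeal A))) ⊤)) :
    b ∈ IsLocalRing.maximalIdeal A := by
  obtain ⟨x, hx⟩ := hover
  obtain ⟨W, hW, hxW, -⟩ := exists_isAffineOpen_mem_and_subset (x := x) (U := (⊤ : X.Opens)) trivial
  let D : X.affineOpens := ⟨W, hW⟩
  obtain ⟨s, hs⟩ := hb
  have hbD : el f W b ∈ (IsLocalRing.maximalIdeal A).map (el f W) := by
    rw [← comap_ideal f _ D, ← mem_range_idealModι_affine]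
    refine ⟨Groth.Agent.QC.res _ le_top s, ?_⟩
    rw [← el_res f (le_top : W ≤ ⊤), ← hs, ← KosExt.secForm_res]
    rfl
  let ψ : A →+* X.presheaf.stalk x := (X.presheaf.germ W x hxW).hom.comp (el f W)
  have key : ∀ a : A, IsUnit (ψ a) → IsUnit a := fun a ha => by
    by_contra hna
    have h1 : x ∈ f ⁻¹ᵁ ((Spec (CommRingCat.of A)).basicOpen ((Scheme.ΓSpecIso (CommRingCat.of A)).inv a)) := by
      rw [Scheme.preimage_basicOpen]
      have h2 : x ∈ X.basicOpen (el f W a) := (X.mem_basicOpen _ x hxW).2 ha
      have h3 : X.basicOpen (el f W a) = W ⊓ X.basicOpen (f.appTop ((Scheme.ΓSpecIso (CommRingCat.of A)).inv a)) := X.basicOpen_res _ _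
      exact (h3 ▸ h2).2
    have h4 : IsLocalRing.closedPoint A ∈ PrimeSpectrum.basicOpen a := by
      rw [basicOpen_eq_of_affine'] at h1
      have h5 : f x ∈ PrimeSpectrum.basicOpen _ := h1
      simp [hx] at h5 ⊢
      exact h5
    exact h4 (by rwa [IsLocalRing.closedPoint, IsLocalRing.mem_maximalIdeal, mem_nonunits_iff])
  by_contra hb'
  have hu : IsUnit b := by simpa [IsLocalRing.mem_maximalIdeal] using hb'
  have hm : (IsLocalRing.maximalIdeal A).map ψ ≤ IsLocalRing.maximalIdeal (X.presheaf.stalk x) :=
    Ideal.map_le_iff_le_comap.2 fun a ha hua => ha (key a hua)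
  refine (IsLocalRing.maximalIdeal.isMaximal (X.presheaf.stalk x)).ne_top
    (Ideal.eq_top_of_isUnit_mem _ (hm ?_) (hu.map ψ))
  rw [← Ideal.map_map]
  exact Ideal.mem_map_of_mem _ hbD

end Groth.Agent.RatBlow
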