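import Groth.Agent.BlowUpExist.Affine

/-!
Rational singularities: charts of the blow-up are normal when the powers are integrally closed.
-/

set_option autoImplicit false
set_option backward.isDefEq.respectTransparency false
set_option linter.style.haveILetI false
set_option linter.unusedSectionVars false

universe u

open Polynomial HomogeneousLocalization Groth.Agent.BlowUpExist

noncomputable section

namespace Groth.Agent.RatBlow

/-- The powers of an ideal are integrally closed, in equational form. -/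
def PowIC {A : Type u} [CommRing A] (I : Ideal A) : Prop :=
  ∀ (N : ℕ) (b : A) (d : ℕ) (e : ℕ → A), (∀ i < d, e i ∈ I ^ (N * (d - i))) →
    b ^ d + ∑ i ∈ Finset.range d, e i * b ^ i = 0 → b ∈ I ^ N

theorem dvd_of_integral {R : Type u} [CommRing R] [IsDomain R] [IsIntegrallyClosed R] {b T : R} (hT : T ≠ 0)
    (d : ℕ) (q : ℕ → R) (h : b ^ d + ∑ i ∈ Finset.range d, q i * T ^ (d - i) * b ^ i = 0) : T ∣ b := by
  let K := FractionRing R
  let g := algebraMap R K
  have hT' : g T ≠ 0 := fun h0 => hT (IsFractionRing.injective R K (h0.trans (map_zero g).symm))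
  let z : K := g b / g T
  have hz : z * g T = g b := div_mul_cancel₀ _ hT'
  have h0 : z ^ d + ∑ i ∈ Finset.range d, g (q i) * z ^ i = 0 := by
    refine (mul_eq_zero.1 ?_).resolve_right (pow_ne_zero d hT')
    have hk := congrArg g h
    rw [map_zero, map_add, map_pow, map_sum] at hk
    rw [add_mul, ← mul_pow, hz, Finset.sum_mul, ← hk]
    refine congrArg _ (Finset.sum_congr rfl fun i hi => ?_)
    rw [map_mul, map_mul, map_pow, map_pow, ← hz, mul_pow]
    conv_lhs => rw [← Nat.sub_add_cancel (Finset.mem_range.1 hi).le, pow_add]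
    ring
  let P : R[X] := X ^ d + ∑ i ∈ Finset.range d, C (q i) * X ^ i
  have hint : IsIntegral R z := ⟨P, monic_X_pow_add ((degree_sum_le _ _).trans_lt
      ((Finset.sup_lt_iff (WithBot.bot_lt_coe d)).2 fun i hi =>
        (degree_C_mul_X_pow_le i (q i)).trans_lt (WithBot.coe_lt_coe.2 (Finset.mem_range.1 hi)))), by
    simpa [P, eval₂_add, eval₂_finset_sum] using h0⟩
  obtain ⟨w, hw⟩ := IsIntegrallyClosed.isIntegral_iff.1 hint
  exact ⟨w, IsFractionRing.injective R K (by rw [map_mul, hw, mul_comm, hz])⟩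

variable {A : Type u} [CommRing A] [IsDomain A] (I : Ideal A) (a : A) (ha : a ∈ I)

local notation "𝒜" => Rees.deg (reesAlgebra I)
local notation "Ch" => HomogeneousLocalization.Away 𝒜 (tt I a ha)

theorem exists_form (z : Ch) : ∃ (n : ℕ) (c : A), c ∈ I ^ n ∧ z * fromA I a ha (a ^ n) = fromA I a ha c := by
  obtain ⟨n, x, hx, rfl⟩ := Away.mk_surjective 𝒜 (tt_mem I a ha) z
  have hx' : x ∈ 𝒜 n := by simpa using hx
  obtain ⟨c, hc, rfl⟩ : ∃ c hc, x = mono I n c hc := ⟨_, _, eq_mono_of_mem I hx'⟩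
  exact ⟨n, c, hc, by rw [val_mul_pow I a ha n _ hx, ev1_mono]⟩

theorem exists_of_mem (n : ℕ) {c : A} (hc : c ∈ I ^ n) : ∃ z : Ch, z * fromA I a ha (a ^ n) = fromA I a ha c :=
  ⟨Away.mk 𝒜 (tt_mem I a ha) n (mono I n c hc) (by simpa using mono_mem I n c hc),
    by rw [val_mul_pow I a ha n _ (by simpa using mono_mem I n c hc), ev1_mono]⟩

theorem exists_toFrac (ha0 : a ≠ 0) : ∃ χ : Ch →+* FractionRing A, Function.Injective χ ∧
    χ.comp (fromA I a ha) = algebraMap A (FractionRing A) := by
  have hψ : algebraMap A (FractionRing A) a ≠ 0 := fun h0 =>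
    ha0 (IsFractionRing.injective A (FractionRing A) (h0.trans (map_zero _).symm))
  obtain ⟨χ, hχ⟩ := exists_chartHom I a ha (algebraMap A (FractionRing A)) (mem_nonZeroDivisors_of_ne_zero hψ)
    (le_antisymm (le_trans le_top (by rw [Ideal.span_singleton_eq_top.2 (Ne.isUnit hψ)]))
      ((Ideal.span_singleton_le_iff_mem _).2 (Ideal.mem_map_of_mem _ ha)))
  suffices key : ∀ z : Ch, χ z = 0 → z = 0 from
    ⟨χ, fun z z' hzz' => sub_eq_zero.1 (key (z - z') ((RingHom.map_sub χ z z').trans (by rw [hzz', sub_self]))), hχ⟩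
  intro z hz
  obtain ⟨n, c, -, h⟩ := exists_form I a ha z
  have h' := congrArg χ h
  rw [map_mul, hz, zero_mul] at h'
  have hc : c = 0 := IsFractionRing.injective A (FractionRing A) (by
    rw [map_zero, h', ← hχ]; rfl)
  rw [hc, map_zero, map_pow] at h
  exact (mul_right_mem_nonZeroDivisors_eq_zero_iff (pow_mem (fromA_mem_nonZeroDivisors I a ha) n)).1 h

/-- A chart of the blow-up is normal. -/
theorem chart_normal [IsIntegrallyClosed A] (hI : PowIC I) (ha0 : a ≠ 0) :
    IsDomain Ch ∧ IsIntegrallyClosed Ch := by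
  obtain ⟨χ, hinj, hχ⟩ := exists_toFrac I a ha ha0
  haveI : IsDomain Ch := hinj.isDomain χ
  refine ⟨inferInstance, ?_⟩
  let K := FractionRing A
  let g : A →+* K := algebraMap A K
  letI : Algebra Ch K := χ.toAlgebra
  haveI : FaithfulSMul Ch K := (faithfulSMul_iff_algebraMap_injective Ch K).2 hinj
  haveI : IsFractionRing Ch K := IsFractionRing.of_field Ch K fun z => by
    obtain ⟨x, y, -, hxy⟩ := IsFractionRing.div_surjective (A := A) z
    exact ⟨fromA I a ha x, fromA I a ha y, by
      rw [← hxy, ← hχ]; rfl⟩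
  refine (isIntegrallyClosed_iff K).2 fun {z} hz => ?_
  obtain ⟨P, hP, hP0⟩ := hz
  let d := P.natDegree
  choose n c hc hform using fun i : ℕ => exists_form I a ha (P.coeff i)
  let N := (Finset.range d).sup n
  have hga : g a ≠ 0 := fun h0 => ha0 (IsFractionRing.injective A K (h0.trans (map_zero _).symm))
  have hcoef : ∀ i, χ (P.coeff i) * g a ^ n i = g (c i) := fun i => by
    have h := congrArg χ (hform i)
    rw [map_mul, map_pow, map_pow, ← RingHom.comp_apply χ, ← RingHom.comp_apply χ, hχ] at h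
    exact h
  let e : ℕ → A := fun i => c i * a ^ (N * (d - i) - n i)
  have hni : ∀ i < d, n i ≤ N * (d - i) := fun i hi =>
    (Finset.le_sup (f := n) (Finset.mem_range.2 hi)).trans (Nat.le_mul_of_pos_right N (Nat.sub_pos_of_lt hi))
  have he : ∀ i < d, e i ∈ I ^ (N * (d - i)) := fun i hi => by
    have h1 := Ideal.mul_mem_mul (hc i) (Ideal.pow_mem_pow ha (N * (d - i) - n i))
    rwa [← pow_add, Nat.add_sub_cancel' (hni i hi)] at h1
  have he' : ∀ i < d, g (e i) = χ (P.coeff i) * g a ^ (N * (d - i)) := fun i hi => by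
    simp only [e]
    rw [map_mul, map_pow, ← hcoef, mul_assoc, ← pow_add, Nat.add_sub_cancel' (hni i hi)]
  let β : K := g a ^ N * z
  have hzero : z ^ d + ∑ i ∈ Finset.range d, χ (P.coeff i) * z ^ i = 0 := by
    rw [← hP0, eval₂_eq_sum_range, Finset.sum_range_succ, add_comm]
    simp [d, hP.coeff_natDegree, RingHom.algebraMap_toAlgebra]
    rfl
  have hβ : β ^ d + ∑ i ∈ Finset.range d, g (e i) * β ^ i = 0 := by
    have h := congrArg (g a ^ (N * d) * ·) hzero
    simp only [mul_zero] at h
    rw [← h, mul_add, Finset.mul_sum]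
    refine congrArg₂ _ (by simp only [β]; rw [mul_pow, ← pow_mul]) (Finset.sum_congr rfl fun i hi => ?_)
    have hi' := (Finset.mem_range.1 hi).le
    rw [he' i (Finset.mem_range.1 hi)]
    simp only [β]
    rw [mul_pow, ← pow_mul, show N * d = N * (d - i) + N * i by rw [← mul_add, Nat.sub_add_cancel hi'], pow_add]
    ring
  have hint : IsIntegral A β := ⟨X ^ d + ∑ i ∈ Finset.range d, C (e i) * X ^ i,
    monic_X_pow_add ((degree_sum_le _ _).trans_lt
      ((Finset.sup_lt_iff (WithBot.bot_lt_coe d)).2 fun i hi =>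
        (degree_C_mul_X_pow_le i (e i)).trans_lt (WithBot.coe_lt_coe.2 (Finset.mem_range.1 hi)))), by
    simpa [eval₂_add, eval₂_finset_sum] using hβ⟩
  obtain ⟨b, hb⟩ := IsIntegrallyClosed.isIntegral_iff.1 hint
  have hb0 : b ^ d + ∑ i ∈ Finset.range d, e i * b ^ i = 0 := IsFractionRing.injective A K (by
    simp only [map_add, map_pow, map_sum, map_mul, map_zero, hb]
    exact hβ)
  obtain ⟨w, hw⟩ := exists_of_mem I a ha N (hI N b d e he hb0)
  refine ⟨w, ?_⟩
  have h := congrArg χ hw
  rw [map_mul, ← RingHom.comp_apply χ, ← RingHom.comp_apply χ, hχ, map_pow] at h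
  refine mul_right_cancel₀ (pow_ne_zero N hga) ?_
  rw [RingHom.algebraMap_toAlgebra, h, hb]
  simp only [β]
  ring

end Groth.Agent.RatBlow
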