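import Groth.Agent.RatBlow.Sections
import Groth.Agent.RatBlow.Base
import Groth.Agent.RatBlow.Chart
import Groth.Agent.S7297
import Groth.Agent.S9674
import Groth.Agent.S0566
import Groth.Agent.NormSect.Basic
import Groth.Agent.NormSmoothBC.Basic
import Groth.Agent.BMCoh.NormalizationIso
import Groth.Agent.BlowUpLib.Basic
import Groth.Agent.BlowUpExist.Proper
import Groth.Agent.W7Fib.Birat
import Groth.Agent.Birat.Generic

/-!
Rational singularities: a normal modification with invertible `m O`, integrally closed powers of `m`.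
-/

set_option autoImplicit false
set_option backward.isDefEq.respectTransparency false
set_option backward.isDefEq.respectTransparency.types false
set_option linter.style.haveILetI false
set_option linter.unusedSectionVars false

universe u

open CategoryTheory CategoryTheory.Limits AlgebraicGeometry TopologicalSpace
open Groth.Agent.QC (resO resO_resO)

noncomputable section

namespace Groth.Agent.RatBlow

/-- An effective Cartier ideal pulls back to one along a morphism of integral schemes hitting the generic point. -/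
theorem cartier_comap_dominant {X Y : Scheme.{u}} [IsIntegral X] [IsIntegral Y] (g : X ⟶ Y)
    (hg : g (genericPoint X) = genericPoint Y) {I : Y.IdealSheafData} (hI : BlowUp.IsEffCartierIdeal I) :
    BlowUp.IsEffCartierIdeal (I.comap g) := fun x => by
  obtain ⟨U, hxU, t, ht, hIU⟩ := hI (g x)
  obtain ⟨W, hW, hxW, hWU⟩ := exists_isAffineOpen_mem_and_subset (x := x) (U := g ⁻¹ᵁ U.1) hxU
  haveI : Nonempty W := ⟨⟨x, hxW⟩⟩
  haveI : Nonempty U.1 := ⟨⟨g x, hxU⟩⟩
  have ht0 : t ≠ 0 := nonZeroDivisors.ne_zero ht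
  refine ⟨⟨W, hW⟩, hxW, (g.appLE U.1 W hWU).hom t, mem_nonZeroDivisors_of_ne_zero fun h0 => ?_, ?_⟩
  · have h1 : X.basicOpen ((g.appLE U.1 W hWU).hom t) = W ⊓ g ⁻¹ᵁ (Y.basicOpen t) := Scheme.basicOpen_appLE g W U.1 hWU t
    rw [show (g.appLE U.1 W hWU).hom t = 0 from h0, Scheme.basicOpen_zero] at h1
    have hne : (Y.basicOpen t : Set Y).Nonempty := (Opens.ne_bot_iff_nonempty _).1 fun hb =>
      ht0 ((basicOpen_eq_bot_iff t).1 hb)
    have h2 : genericPoint X ∈ W ⊓ g ⁻¹ᵁ (Y.basicOpen t) :=
      ⟨((genericPoint_spec X).mem_open_set_iff W.2).2 (by simpa using ⟨x, hxW⟩),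
        show g (genericPoint X) ∈ Y.basicOpen t by
          rw [hg]
          exact ((genericPoint_spec Y).mem_open_set_iff (Y.basicOpen t).2).2 (by simpa using hne)⟩
    rw [← h1] at h2
    exact h2
  · rw [FpqcDescent.ideal_comap_appLE I g U ⟨W, hW⟩ hWU, hIU, Ideal.map_span, Set.image_singleton]

variable {A : Type u} [CommRing A] [IsDomain A] [IsLocalRing A] [IsNoetherianRing A] [IsIntegrallyClosed A]

theorem idealSheaf_ne_bot {J : Ideal A} (hJ : J ≠ ⊥) : Curv2.idealSheaf A J ≠ ⊥ := by
  intro h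
  apply hJ
  have h' : (Curv2.idealSheaf A J).ideal ⟨⊤, isAffineOpen_top _⟩ = ⊥ := by
    rw [h]; exact Scheme.IdealSheafData.ideal_bot ▸ rfl
  simp only [Curv2.idealSheaf, Scheme.IdealSheafData.ofIdealTop_ideal, Ideal.map_map] at h'
  refine (Ideal.map_eq_bot_iff_of_injective ?_).1 h'
  intro u v huv
  exact (Scheme.ΓSpecIso (CommRingCat.of A)).symm.commRingCatIsoToRingEquiv.injective huv

/-- A normal modification on which the maximal ideal becomes invertible. -/
theorem exists_modification (hN : CAlg.IsNagata A) (hdim : ringKrullDim A = 2) (X : Scheme.{u})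
    (b : X ⟶ Spec (CommRingCat.of A))
    (hb : BlowUp.IsBlowUp b (Curv2.idealSheaf A (IsLocalRing.maximalIdeal A))) :
    ∃ (Y : Scheme.{u}) (f : Y ⟶ Spec (CommRingCat.of A)), IsProper f ∧ IsIntegral Y ∧ Pi1.IsNormalScheme Y ∧
      (∃ U : (Spec (CommRingCat.of A)).Opens, (U : Set (Spec (CommRingCat.of A))).Nonempty ∧ IsIso (f ∣_ U)) ∧
      BlowUp.IsEffCartierIdeal (idl f (IsLocalRing.maximalIdeal A)) := by
  have hm : IsLocalRing.maximalIdeal A ≠ ⊥ := by
    intro h
    have hf : IsField A := IsLocalRing.isField_iff_maximalIdeal_eq.2 h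
    rw [ringKrullDim_eq_zero_of_isField hf] at hdim
    exact absurd hdim (by decide)
  have hI := idealSheaf_ne_bot hm
  haveI hXi : IsIntegral X := W7Fib.isIntegral_blowUp hI hb
  haveI hbp : IsProper b := BlowUpExist.isProper_spec b _ hb (by
    haveI := IsLocallyNoetherian.component_noetherian (X := Spec (CommRingCat.of A)) ⟨⊤, isAffineOpen_top _⟩
    exact IsNoetherian.noetherian _)
  haveI : IsNoetherian X := by
    haveI : IsLocallyNoetherian X := LocallyOfFiniteType.isLocallyNoetherian b
    haveI : CompactSpace X := QuasiCompact.compactSpace_of_compactSpace b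
    constructor
  haveI : X.IsSeparated := ⟨by
    rw [← terminal.comp_from b]; infer_instance⟩
  haveI : QuasiCompact (X.fromSpecStalk (genericPoint X)) := inferInstance
  haveI : QuasiSeparated (X.fromSpecStalk (genericPoint X)) := inferInstance
  haveI hfin : IsFinite (Curv2.normalizationι X) := by
    refine Groth.Agent.S9674.result (X.fromSpecStalk (genericPoint X)) (fun U => ?_) (locallyFinite_of_finite _) fun z _ => ?_
    · letI : Algebra A Γ(X, U.1) := (el b U.1).toAlgebra
      haveI : Algebra.FiniteType A Γ(X, U.1) := by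
        have h1 := b.finiteType_appLE (isAffineOpen_top _) U.2 (le_top : U.1 ≤ b ⁻¹ᵁ ⊤)
        have h2 : el b U.1 = (b.appLE ⊤ U.1 le_top).hom.comp (Scheme.ΓSpecIso (CommRingCat.of A)).inv.hom := rfl
        rw [← RingHom.finiteType_algebraMap, RingHom.algebraMap_toAlgebra, h2]
        exact h1.comp (RingHom.FiniteType.of_surjective _
          (Scheme.ΓSpecIso (CommRingCat.of A)).symm.commRingCatIsoToRingEquiv.surjective)
      exact Groth.Agent.S0566.result A hN Γ(X, U.1)
    · refine RingHom.FiniteType.essFiniteType (RingHom.FiniteType.of_surjective _ ?_)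
      intro r
      obtain ⟨r', rfl⟩ := Ideal.Quotient.mk_surjective r
      obtain ⟨s, hs⟩ := (X.fromSpecStalk (genericPoint X)).stalkMap_surjective z r'
      exact ⟨X.residue _ s, by rw [← hs]; rfl⟩
  haveI : IsIntegral (Curv2.normalization X) := NormSmoothBC.isIntegral_normalization (X := X)
  refine ⟨Curv2.normalization X, Curv2.normalizationι X ≫ b, inferInstance, inferInstance, NormSmoothBC.isNormal (X := X), ?_, ?_⟩
  · obtain ⟨D, hD, hDiso⟩ := BMCoh.exists_isIso_normalizationι X
    haveI := hDiso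
    let U₀ := (Curv2.idealSheaf A (IsLocalRing.maximalIdeal A)).support.compl
    haveI := BlowUpLib.isIso_restrict hb
    have hηU : genericPoint (Spec (CommRingCat.of A)) ∈ U₀ := W7Fib.genericPoint_notMem_support hI
    obtain ⟨x₀, hx₀⟩ := (b ∣_ U₀).surjective ⟨_, hηU⟩
    have hne : ((D ⊓ b ⁻¹ᵁ U₀ : X.Opens) : Set X).Nonempty :=
      nonempty_preirreducible_inter D.2 (b ⁻¹ᵁ U₀).2 hD ⟨x₀.1, x₀.2⟩
    let D' : X.Opens := D ⊓ b ⁻¹ᵁ U₀
    let U' := Curv2.normalizationι X ⁻¹ᵁ D'
    haveI : IsOpenImmersion ((Curv2.normalizationι X ⁻¹ᵁ D).ι ≫ Curv2.normalizationι X) := by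
      rw [← morphismRestrict_ι]
      infer_instance
    haveI : IsIso (Curv2.normalizationι X ∣_ D') := Birat.isIso_restrict_of_le _
      (U := Curv2.normalizationι X ⁻¹ᵁ D) (V := D) (by
        rw [← morphismRestrict_ι]
        ext z
        simp only [Set.mem_range, SetLike.mem_coe]
        refine ⟨?_, fun hz => ?_⟩
        · rintro ⟨w, rfl⟩
          exact ((Curv2.normalizationι X ∣_ D) w).2
        · obtain ⟨w, hw⟩ := (Curv2.normalizationι X ∣_ D).surjective ⟨z, hz⟩
          exact ⟨w, congrArg Subtype.val hw⟩) inf_le_left (fun z hz => hz.1)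
    haveI hbo : IsOpenImmersion (D'.ι ≫ b) := by
      rw [← Scheme.homOfLE_ι X (inf_le_right : D' ≤ b ⁻¹ᵁ U₀), Category.assoc, ← morphismRestrict_ι]
      infer_instance
    haveI : IsOpenImmersion (U'.ι ≫ Curv2.normalizationι X ≫ b) := by
      rw [← morphismRestrict_ι_assoc]
      infer_instance
    let V := (U'.ι ≫ Curv2.normalizationι X ≫ b).opensRange
    obtain ⟨x, hx⟩ := hne
    obtain ⟨y, hy⟩ := (Curv2.normalizationι X ∣_ D').surjective ⟨x, hx⟩
    refine ⟨V, ⟨_, y, rfl⟩, Birat.isIso_restrict_of_le _ (V := V) rfl le_rfl fun z hz => ?_⟩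
    obtain ⟨w, hw⟩ := hz
    rw [Scheme.Hom.comp_apply, Scheme.Hom.comp_apply, Scheme.Hom.comp_apply] at hw
    have hwD : Curv2.normalizationι X w.1 ∈ D' := w.2
    have hzU : b (Curv2.normalizationι X z) ∈ U₀ := by
      rw [← hw]; exact hwD.2
    have e : Curv2.normalizationι X w.1 = Curv2.normalizationι X z :=
      congrArg Subtype.val ((b ∣_ U₀).homeomorph.injective (a₁ := ⟨_, hwD.2⟩) (a₂ := ⟨_, hzU⟩) (Subtype.ext (by simpa using hw)))
    show Curv2.normalizationι X z ∈ D'
    exact e ▸ hwD
  · show BlowUp.IsEffCartierIdeal (Scheme.IdealSheafData.comap _ (Curv2.normalizationι X ≫ b))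
    rw [Scheme.IdealSheafData.comap_comp]
    exact cartier_comap_dominant _ (NormSmoothBC.ι_genericPoint (X := X)) hb.1

/-- The powers of the maximal ideal of a rational singularity are integrally closed. -/
theorem powIC_maximal (hN : CAlg.IsNagata A) (hdim : ringKrullDim A = 2) (hA : Curv2.IsRationalSing A)
    {X : Scheme.{u}} {b : X ⟶ Spec (CommRingCat.of A)}
    (hb : BlowUp.IsBlowUp b (Curv2.idealSheaf A (IsLocalRing.maximalIdeal A))) :
    PowIC (IsLocalRing.maximalIdeal A) := by
  obtain ⟨Y, f, hfp, hYi, hYn, hbir, hE⟩ := exists_modification hN hdim X b hb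
  intro N β d e he h0
  have hv : ∀ M : Y.Modules, Coh.IsCoh M → Subsingleton (Coh.HH Y M 2) := fun M hM =>
    Groth.Agent.S7297.result A hN hdim hA Y f hYn hbir M hM.1 2 le_rfl
  have hO : Subsingleton (Coh.HH Y (Coh.structureModule Y) 1) := hA Y f inferInstance inferInstance hYn hbir
  obtain ⟨r, a, ha⟩ := Submodule.fg_iff_exists_fin_generating_family.1
    (IsNoetherian.noetherian (IsLocalRing.maximalIdeal A))
  obtain ⟨s, hs, hgen⟩ := exists_gen hE a ha
  obtain ⟨σ, hσ⟩ := exists_μ_loc hE N (el f ⊤ β) fun U t hne ht hI => by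
    rw [el_res]
    haveI : Nonempty U.1 := hne.to_subtype
    haveI : IsIntegrallyClosed Γ(Y, U.1) := NormSect.isIntegrallyClosed_sections U.1 fun x _ => (hYn x).2
    choose q hq using fun i : ℕ => (show (t ^ N) ^ (d - i) ∣ el f U.1 (if i < d then e i else 0) by
      split_ifs with hi
      · rw [← pow_mul, ← Ideal.mem_span_singleton, ← Ideal.span_singleton_pow, ← hI, comap_ideal, ← Ideal.map_pow]
        exact Ideal.mem_map_of_mem _ (he i hi)
      · simp)
    refine dvd_of_integral (pow_ne_zero N (nonZeroDivisors.ne_zero ht)) d q ?_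
    have h1 := congrArg (el f U.1) h0
    rw [map_zero, map_add, map_pow, map_sum] at h1
    refine Eq.trans (congrArg _ (Finset.sum_congr rfl fun i hi => ?_)) h1
    rw [mul_comm (q i), ← hq i, if_pos (Finset.mem_range.1 hi), map_mul, map_pow]
  exact mem_pow_of_μ hE hv hO s hgen a (fun j => ha ▸ Ideal.subset_span ⟨j, rfl⟩) hs
    (el_top_bijective f hbir) (fun c hc => mem_of_range f (exists_over f hbir (IsLocalRing.closedPoint A)) c hc)
    N σ β hσ

theorem isNormal_chart {X : Scheme.{u}} {R : Type u} [CommRing R] [IsDomain R] [IsIntegrallyClosed R]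
    (j : Spec (CommRingCat.of R) ⟶ X) [IsOpenImmersion j] (p : Spec (CommRingCat.of R)) :
    IsDomain (X.presheaf.stalk (j p)) ∧ IsIntegrallyClosed (X.presheaf.stalk (j p)) := by
  obtain ⟨h1, h2⟩ := isNormal_spec (A := R) p
  let e := (asIso (j.stalkMap p)).commRingCatIsoToRingEquiv
  haveI : IsDomain (X.presheaf.stalk (j p)) := e.toMulEquiv.isDomain _
  exact ⟨inferInstance, IsIntegrallyClosed.of_equiv e.symm⟩

set_option maxHeartbeats 1000000 in
/-- The blow-up of a rational singularity at the maximal ideal is normal. -/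
theorem isNormal_blowUp (hN : CAlg.IsNagata A) (hdim : ringKrullDim A = 2) (hA : Curv2.IsRationalSing A)
    {X : Scheme.{u}} {b : X ⟶ Spec (CommRingCat.of A)}
    (hb : BlowUp.IsBlowUp b (Curv2.idealSheaf A (IsLocalRing.maximalIdeal A))) :
    Pi1.IsNormalScheme X := by
  let I := IsLocalRing.maximalIdeal A
  have hP : BlowUp.IsBlowUp (BlowUpExist.structMap I) (Curv2.idealSheaf A I) := BlowUpExist.isBlowUp_affine I
  obtain ⟨h, hh, -⟩ := hb.2 _ _ hP.1
  obtain ⟨k, hk, -⟩ := hP.2 _ _ hb.1
  have e1 : h ≫ k = 𝟙 _ := (hP.2 _ _ hP.1).unique (by rw [Category.assoc, hk, hh]) (Category.id_comp _)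
  have e2 : k ≫ h = 𝟙 _ := (hb.2 _ _ hb.1).unique (by rw [Category.assoc, hh, hk]) (Category.id_comp _)
  haveI : IsIso h := ⟨k, e1, e2⟩
  have hPI := powIC_maximal hN hdim hA hb
  intro x
  obtain ⟨a, ha, p, hp⟩ := BlowUpExist.exists_chart I (inv h x)
  have ha0 : a ≠ 0 := by
    intro h0
    subst h0
    haveI : Subsingleton (HomogeneousLocalization.Away (Rees.deg (reesAlgebra I)) (BlowUpExist.tt I 0 ha)) := by
      refine subsingleton_of_zero_eq_one ?_
      have hz := BlowUpExist.fromA_mem_nonZeroDivisors I 0 ha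
      rw [map_zero] at hz
      refine (hz.2 1 ?_).symm
      exact HomogeneousLocalization.val_injective _ (by simp [HomogeneousLocalization.val_mul])
    exact (PrimeSpectrum.instIsEmptyOfSubsingleton.false (p : PrimeSpectrum _))
  obtain ⟨h1, h2⟩ := chart_normal I a ha hPI ha0
  have := isNormal_chart (BlowUpExist.chart I a ha ≫ h) p
  rwa [Scheme.Hom.comp_apply, hp, ← Scheme.Hom.comp_apply, IsIso.inv_hom_id] at this

end Groth.Agent.RatBlow
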