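import Groth.Agent.RatBlow.Powers
import Groth.Agent.NormGen.Mult
import Groth.Agent.LefDiv.Vanish
import Groth.Agent.RelTilde.Tensor

/-!
Rational singularities: `H¹(X, I^n) = 0` and `H⁰(X, I^n) = m^n`.
-/

set_option autoImplicit false
set_option backward.isDefEq.respectTransparency false
set_option backward.isDefEq.respectTransparency.types false
set_option linter.style.haveILetI false
set_option linter.unusedSectionVars false

universe u

open CategoryTheory CategoryTheory.Limits AlgebraicGeometry TopologicalSpace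
open Groth.Agent.QC (res resO res_res resO_resO res_smul res_self app_res)
open TMul (tm IsGen homOf val_homOf)

noncomputable section

namespace Groth.Agent.RatBlow

attribute [local instance] Groth.Agent.Nakai.clMonoid

variable {X : Scheme.{u}}

theorem nonempty_idealMod_top : Nonempty (ClSub.idealMod (⊤ : X.IdealSheafData) ≅ Coh.structureModule X) := by
  haveI : IsEmpty (⊤ : X.IdealSheafData).subscheme := by
    refine ⟨fun z => ?_⟩
    have h : (⊤ : X.IdealSheafData).subschemeι z ∈ Set.range (⊤ : X.IdealSheafData).subschemeι := ⟨z, rfl⟩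
    rw [Scheme.IdealSheafData.range_subschemeι] at h
    simp at h
  haveI : IsIso (ClSub.idealModι (⊤ : X.IdealSheafData)) := by
    refine RelTilde.isIso_of_bijective_near _ fun x => ⟨⊤, trivial, fun V _ => ⟨?_, fun t => ?_⟩⟩
    · exact Groth.Agent.QC.app_injective_of_mono (ClSub.idealModι _) V
    · exact (Groth.Agent.QC.mem_range_idealModι _ V t).2 (Subsingleton.elim _ _)
  exact ⟨asIso (ClSub.idealModι _)⟩

variable {A : Type u} [CommRing A] {f : X ⟶ Spec (CommRingCat.of A)} {J : Ideal A}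
  (hc : BlowUp.IsEffCartierIdeal (idl f J))

include hc

theorem nonempty_idealMod_pow : ∀ n : ℕ,
    Nonempty (CohB1.tensorPow (L f J) n ≅ ClSub.idealMod ((idl f J) ^ n))
  | 0 => by
    rw [show (idl f J) ^ 0 = (⊤ : X.IdealSheafData) from pow_zero _]
    exact ⟨(nonempty_idealMod_top (X := X)).some.symm⟩
  | n + 1 => Nakai.iso_of_cl (by rw [Nakai.cl_pow, (LefDiv.idealMod_pow hc n).2])

/-- The generators of `J` give generating sections of `J O_X`. -/
theorem exists_gen {r : ℕ} (a : Fin r → A) (ha : Ideal.span (Set.range a) = J) :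
    ∃ s : Fin r → Γ(L f J, ⊤), (∀ j, KoszSh.secForm (ClSub.idealModι (idl f J)) ⊤ (s j) = el f ⊤ (a j)) ∧
      ∀ x : X, ∃ j, x ∈ CohB1.genLocus (L f J) (homOf (s j)) := by
  have hmem : ∀ (j : Fin r) (U : X.affineOpens), el f U.1 (a j) ∈ ((idl f J) ^ 1).ideal U := fun j U => by
    rw [pow_ideal, pow_one]
    exact Ideal.mem_map_of_mem _ (ha ▸ Ideal.subset_span ⟨j, rfl⟩)
  choose σ hσ using fun j => exists_μ hc 1 (el f ⊤ (a j)) fun U => by rw [el_res]; exact hmem j U
  choose m l hml using fun j => NormGen.mem_span_zero (σ j)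
  let s : Fin r → Γ(L f J, ⊤) := fun j => (show Γ(X, ⊤) from m j) • l j
  have hs : ∀ j, KoszSh.secForm (ClSub.idealModι (idl f J)) ⊤ (s j) = el f ⊤ (a j) := fun j => by
    rw [← hσ j, hml j]
    change KoszSh.secForm _ ⊤ ((show Γ(X, ⊤) from m j) • l j) =
      KoszSh.secForm (KosTwist.powι (ClSub.idealModι (idl f J)) 0) ⊤
        ((KosTwist.mulHom (CohB1.tensorPow (L f J) 0) (ClSub.idealModι (idl f J))).app ⊤ (tm (m j) (l j)))
    rw [KosTwist.mulHom_tm, map_smul, map_smul, smul_eq_mul, smul_eq_mul, mul_comm]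
    rfl
  refine ⟨s, hs, fun x => ?_⟩
  obtain ⟨D, e, t, hxD, he, ht, hI, hte⟩ := exists_local hc x
  choose b hb using fun j => (he D.1 le_rfl).2 (res (L f J) (le_top : D.1 ≤ ⊤) (s j))
  simp only [res_self] at hb
  have hbt : ∀ j, el f D.1 (a j) = b j * t := fun j => by
    rw [← el_res f (le_top : D.1 ≤ ⊤), ← hs j, ← KosExt.secForm_res, ← hb j, map_smul, hte, smul_eq_mul]
  have hspan : t ∈ Ideal.span (Set.range fun j => el f D.1 (a j)) := by
    have : t ∈ (idl f J).ideal D := hI ▸ Ideal.mem_span_singleton_self t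
    rw [comap_ideal, ← ha, Ideal.map_span, ← Set.range_comp] at this
    exact this
  obtain ⟨c, hct⟩ := Ideal.mem_span_range_iff_exists_fun.1 hspan
  have h1 : ∑ j, c j * b j = 1 := by
    refine (mul_cancel_right_mem_nonZeroDivisors ht).1 ?_
    rw [Finset.sum_mul, one_mul]
    exact Eq.trans (Finset.sum_congr rfl fun j _ => by rw [mul_assoc, ← hbt]) hct
  by_contra hno
  push Not at hno
  refine (IsLocalRing.maximalIdeal.isMaximal (X.presheaf.stalk x)).ne_top
    (Ideal.eq_top_of_isUnit_mem _ (x := X.presheaf.germ D.1 x hxD (∑ j, c j * b j)) ?_ (by rw [h1, map_one]; exact isUnit_one))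
  rw [map_sum]
  refine sum_mem fun j _ => ?_
  rw [map_mul]
  exact Ideal.mul_mem_left _ _ fun hu' => hno j ((TMul.mem_genLocus_iff_isUnit _ he
    ((val_homOf _ _).trans (hb j).symm) hxD).2 hu')

variable [IsNoetherianRing A] [IsProper f]
  (hv : ∀ M : X.Modules, Coh.IsCoh M → Subsingleton (Coh.HH X M 2))
  (hO : Subsingleton (Coh.HH X (Coh.structureModule X) 1))
  {r : ℕ} (s : Fin r → Γ(L f J, ⊤)) (hgen : ∀ x : X, ∃ j, x ∈ CohB1.genLocus (L f J) (homOf (s j)))

include hv hO hgen

theorem h1_pow : ∀ n : ℕ, Subsingleton (Coh.HH X (CohB1.tensorPow (L f J) n) 1)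
  | 0 => hO
  | n + 1 => by
    letI : X.Over (Spec (CommRingCat.of A)) := ⟨f⟩
    haveI : IsProper (X ↘ Spec (CommRingCat.of A)) := inferInstanceAs (IsProper f)
    haveI : IsNoetherian X := H1Triv.isNoetherian_of_proper_ring A
    exact NormGen.h1_tensor_of_generated A hv (TMul.isInvertible_tensorPow (isInvertible_L hc) n)
      (isInvertible_L hc) s hgen (h1_pow n)

theorem h1_idealMod (n : ℕ) : Subsingleton (Coh.HH X (ClSub.idealMod ((idl f J) ^ n)) 1) :=
  CohQC.hh_subsingleton_of_iso (nonempty_idealMod_pow hc n).some 1 (h1_pow hc hv hO s hgen n)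

/-- The sections of the powers of the ideal. -/
theorem mem_pow_of_μ (a : Fin r → A) (ha : ∀ j, a j ∈ J)
    (hs : ∀ j, KoszSh.secForm (ClSub.idealModι (idl f J)) ⊤ (s j) = el f ⊤ (a j))
    (htop : Function.Bijective (el f (⊤ : X.Opens))) (h0 : ∀ b : A, (el f ⊤ b) ∈
      Set.range (KoszSh.secForm (ClSub.idealModι (idl f J)) ⊤) → b ∈ J) :
    ∀ (n : ℕ) (σ : Γ(CohB1.tensorPow (L f J) n, ⊤)) (b : A),
      KoszSh.secForm (μ f J n) ⊤ σ = el f ⊤ b → b ∈ J ^ n
  | 0, _, _, _ => by simp
  | 1, σ, b, hb => by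
    rw [pow_one]
    obtain ⟨m, l, rfl⟩ := NormGen.mem_span_zero σ
    refine h0 b ⟨(show Γ(X, ⊤) from m) • l, ?_⟩
    rw [← hb]
    change KoszSh.secForm _ ⊤ ((show Γ(X, ⊤) from m) • l) =
      KoszSh.secForm (KosTwist.powι (ClSub.idealModι (idl f J)) 0) ⊤
        ((KosTwist.mulHom (CohB1.tensorPow (L f J) 0) (ClSub.idealModι (idl f J))).app ⊤ (tm m l))
    rw [KosTwist.mulHom_tm, map_smul, map_smul, smul_eq_mul, smul_eq_mul, mul_comm]
    rfl
  | k + 2, σ, b, hb => by
    letI : X.Over (Spec (CommRingCat.of A)) := ⟨f⟩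
    haveI : IsProper (X ↘ Spec (CommRingCat.of A)) := inferInstanceAs (IsProper f)
    haveI : IsNoetherian X := H1Triv.isNoetherian_of_proper_ring A
    obtain ⟨m, hm⟩ := NormGen.exists_eq_sum A hv (TMul.isInvertible_tensorPow (isInvertible_L hc) k)
      (isInvertible_L hc) s hgen (h1_pow hc hv hO s hgen k) σ
    choose c hcm using fun j => htop.2 (KoszSh.secForm (μ f J (k + 1)) ⊤ (m j))
    have hb' : b = ∑ j, a j * c j := htop.1 (by
      rw [← hb, map_sum, hm, map_sum]
      refine Finset.sum_congr rfl fun j _ => ?_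
      rw [map_mul, hcm j, ← hs j]
      change KoszSh.secForm (μ f J (k + 1)) ⊤
        ((KosTwist.mulHom (CohB1.tensorPow (L f J) (k + 1)) (ClSub.idealModι (idl f J))).app ⊤ (tm (m j) (s j))) = _
      rw [KosTwist.mulHom_tm, map_smul, smul_eq_mul])
    rw [hb', pow_succ']
    exact sum_mem fun j _ => Ideal.mul_mem_mul (ha j)
      (mem_pow_of_μ a ha hs htop h0 (k + 1) (m j) (c j) (hcm j).symm)

end Groth.Agent.RatBlow
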