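import Groth.Agent.RatBlow.Sections
import Groth.Agent.RatBlow.Base
import Groth.Agent.PnReg.WedgeLine
import Groth.Agent.NormGen.RegSection
import Groth.Agent.NormGen.Apps
import Groth.Agent.CompInt.Cohom
import Groth.Agent.W7Cech.GlobSec
import Groth.Agent.H1Triv.Basic

/-!
Rational singularities: cohomology of the powers of `O(1)` on the exceptional divisor.
-/

set_option autoImplicit false
set_option backward.isDefEq.respectTransparency false
set_option backward.isDefEq.respectTransparency.types false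
set_option linter.style.haveILetI false
set_option linter.unusedSectionVars false

universe u

open CategoryTheory CategoryTheory.Limits AlgebraicGeometry TopologicalSpace
open Groth.Agent.QC (res resO res_res resO_resO res_smul res_self app_res)
open TMul (tm)

noncomputable section

namespace Groth.Agent.RatBlow

variable {X : Scheme.{u}}

/-- The twisted ideal sequence `0 → L^{n+1} → L^n → L^n ⊗ O_E → 0`. -/
theorem exists_seq (I : X.IdealSheafData) (hI : PicF.IsInvertible (ClSub.idealMod I)) (n : ℕ) :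
    ∃ (g : CohB1.tensorPow (ClSub.idealMod I) n ⟶
        CohB1.tensorMod (CohB1.tensorPow (ClSub.idealMod I) n) (ClSub.quotMod I))
      (h : KosTwist.mulHom (CohB1.tensorPow (ClSub.idealMod I) n) (ClSub.idealModι I) ≫ g = 0),
      (ShortComplex.mk _ g h).ShortExact := by
  let P := CohB1.tensorPow (ClSub.idealMod I) n
  have hP : FlatMod.IsFinLocFree P := fun y =>
    let ⟨U, hU, h⟩ := CurveRR.isFinLocFreeOfRank_one (TMul.isInvertible_tensorPow hI n) y; ⟨U, 1, hU, h⟩
  have hS := PnReg.shortExact_tensor hP (CurveRR.ideal_shortExact I)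
  let Θ := TMul.leftUnitIso P
  let Ψ : CohB1.tensorMod (ClSub.quotMod I) P ≅ CohB1.tensorMod P (ClSub.quotMod I) := TMul.commIso _ _
  have hcomm : KosTwist.mulHom P (ClSub.idealModι I) =
      TMul.commHom P (ClSub.idealMod I) ≫ CohFinite.tmap (ClSub.idealModι I) P ≫ Θ.hom := by
    refine TMul.hom_ext fun U m l => ?_
    change _ = Θ.hom.app U ((CohFinite.tmap (ClSub.idealModι I) P).app U
      ((TMul.commHom P (ClSub.idealMod I)).app U (tm m l)))
    rw [KosTwist.mulHom_tm, TMul.commHom_tm, CohFinite.tmap_tm]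
    exact (CurveRR.leftUnitIso_tm P _ _).symm
  refine ⟨Θ.inv ≫ CohFinite.tmap (ClSub.toSubscheme I) P ≫ Ψ.hom, ?_, ?_⟩
  · rw [hcomm]
    simp only [Category.assoc, Iso.hom_inv_id_assoc]
    rw [← Category.assoc (CohFinite.tmap (ClSub.idealModι I) P), ← CohFinite.tmap_comp]
    rw [show ClSub.idealModι I ≫ ClSub.toSubscheme I = 0 from kernel.condition _, CohFinite.tmap_zero,
      zero_comp, comp_zero]
  · refine ShortComplex.shortExact_of_iso (ShortComplex.isoMk (TMul.commIso (ClSub.idealMod I) P) Θ Ψ ?_ ?_) hS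
    · change (TMul.commIso (ClSub.idealMod I) P).hom ≫ KosTwist.mulHom P (ClSub.idealModι I) =
        CohFinite.tmap (ClSub.idealModι I) P ≫ Θ.hom
      rw [hcomm, show TMul.commHom P (ClSub.idealMod I) = (TMul.commIso (ClSub.idealMod I) P).inv from rfl,
        Iso.hom_inv_id_assoc]
    · change Θ.hom ≫ Θ.inv ≫ CohFinite.tmap (ClSub.toSubscheme I) P ≫ Ψ.hom =
        CohFinite.tmap (ClSub.toSubscheme I) P ≫ Ψ.hom
      rw [Iso.hom_inv_id_assoc]

variable (A : Type u) [CommRing A] [IsNoetherianRing A] [X.Over (Spec (CommRingCat.of A))]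
  [IsProper (X ↘ Spec (CommRingCat.of A))] {J : Ideal A}
  (hc : BlowUp.IsEffCartierIdeal (idl (X ↘ Spec (CommRingCat.of A)) J))
  (hv : ∀ M : X.Modules, Coh.IsCoh M → Subsingleton (Coh.HH X M 2))

include hc hv

theorem h1_quot (n : ℕ)
    (h : Subsingleton (Coh.HH X (CohB1.tensorPow (L (X ↘ Spec (CommRingCat.of A)) J) n) 1)) :
    Subsingleton (Coh.HH X (CohB1.tensorMod (CohB1.tensorPow (L (X ↘ Spec (CommRingCat.of A)) J) n)
      (ClSub.quotMod (idl (X ↘ Spec (CommRingCat.of A)) J))) 1) := by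
  haveI : IsNoetherian X := H1Triv.isNoetherian_of_proper_ring A
  obtain ⟨g, hg, hS⟩ := exists_seq _ (isInvertible_L hc) n
  haveI := h
  exact (H1Triv.surjective_of_h_next A hS 1
    (hv _ (CurveRR.isCoh_of_inv (TMul.isInvertible_tensorPow (isInvertible_L hc) (n + 1))))).subsingleton

omit [IsNoetherianRing A] [IsProper (X ↘ Spec (CommRingCat.of A))] hv in
/-- `H⁰(E, O(n)) ≅ J^n / J^{n+1}`, lengthwise. -/
theorem length_quot
    (htop : Function.Bijective (el (X ↘ Spec (CommRingCat.of A)) (⊤ : X.Opens)))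
    (hmem : ∀ (n : ℕ) (σ : Γ(CohB1.tensorPow (L (X ↘ Spec (CommRingCat.of A)) J) n, ⊤)) (b : A),
      KoszSh.secForm (μ (X ↘ Spec (CommRingCat.of A)) J n) ⊤ σ = el (X ↘ Spec (CommRingCat.of A)) ⊤ b → b ∈ J ^ n)
    (n : ℕ) (h : Subsingleton (Coh.HH X (CohB1.tensorPow (L (X ↘ Spec (CommRingCat.of A)) J) (n + 1)) 1)) :
    Module.length A (Coh.HH X (CohB1.tensorMod (CohB1.tensorPow (L (X ↘ Spec (CommRingCat.of A)) J) n)
      (ClSub.quotMod (idl (X ↘ Spec (CommRingCat.of A)) J))) 0) =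
    Module.length A (↥(J ^ n) ⧸ (Submodule.comap (J ^ n).subtype (J ^ (n + 1)))) := by
  let f := X ↘ Spec (CommRingCat.of A)
  obtain ⟨g, hg, hS⟩ := exists_seq _ (isInvertible_L hc) n
  let G := CohIII.globalSectionsA (X := X) A
  let P : ℕ → X.Modules := fun k => CohB1.tensorPow (L f J) k
  -- the values of the sections
  have hsmul : ∀ (k : ℕ) (a : A) (σ : (G.obj (P k) : Type u)),
      KoszSh.secForm (μ f J k) ⊤ (show Γ(P k, ⊤) from a • σ) = el f ⊤ a * KoszSh.secForm (μ f J k) ⊤ σ := by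
    intro k a σ
    rw [NormGen.smul_globalSectionsA, map_smul, smul_eq_mul]
    exact congrArg (· * _) (Groth.Agent.QC.resO_self le_rfl _).symm
  let ev : A ≃+* Γ(X, ⊤) := RingEquiv.ofBijective (el f ⊤) htop
  let φ : ∀ k, (G.obj (P k) : Type u) →ₗ[A] A := fun k =>
    { toFun := fun σ => ev.symm (KoszSh.secForm (μ f J k) ⊤ σ)
      map_add' := fun σ τ => by
        rw [← map_add ev.symm, ← map_add]
      map_smul' := fun a σ => by
        rw [hsmul, map_mul, RingHom.id_apply, smul_eq_mul]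
        exact congrArg (· * _) (ev.symm_apply_apply a) }
  have hφ : ∀ k σ, el f ⊤ (φ k σ) = KoszSh.secForm (μ f J k) ⊤ σ := fun k σ => ev.apply_symm_apply _
  have hinj : ∀ k, Function.Injective (φ k) := fun k σ τ e =>
    μ_injective hc k ⊤ ((hφ k σ).symm.trans ((congrArg _ e).trans (hφ k τ)))
  have hrange : ∀ k, LinearMap.range (φ k) = J ^ k := fun k => by
    refine le_antisymm ?_ fun b hb => ?_
    · rintro _ ⟨σ, rfl⟩
      exact hmem k σ _ (hφ k σ).symm
    · obtain ⟨σ, hσ⟩ := exists_μ hc k (el f ⊤ b) fun U => by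
        rw [el_res, pow_ideal]
        exact Ideal.mem_map_of_mem _ hb
      exact ⟨σ, htop.1 ((hφ k σ).trans hσ)⟩
  let e : (G.obj (P n) : Type u) ≃ₗ[A] ↥(J ^ n) :=
    (LinearEquiv.ofInjective (φ n) (hinj n)).trans (LinearEquiv.ofEq _ _ (hrange n))
  let i : (G.obj (P (n + 1)) : Type u) →ₗ[A] (G.obj (P n) : Type u) :=
    (G.map (KosTwist.mulHom (P n) (ClSub.idealModι (idl f J)))).hom
  have hi : ∀ σ, φ n (i σ) = φ (n + 1) σ := fun σ => htop.1 (by rw [hφ, hφ]; rfl)
  let p : (G.obj (P n) : Type u) →ₗ[A] (G.obj (CohB1.tensorMod (P n) (ClSub.quotMod (idl f J))) : Type u) :=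
    (G.map g).hom
  have hp : Function.Surjective p := fun t => CompInt.surjective_app_top hS h t
  have hker : LinearMap.ker p = LinearMap.range i := by
    ext σ
    exact (NormGen.sections_exact _ hS ⊤ σ).trans Iff.rfl
  have hmap : Submodule.map (e : (G.obj (P n) : Type u) →ₗ[A] ↥(J ^ n)) (LinearMap.range i) =
      Submodule.comap (J ^ n).subtype (J ^ (n + 1)) := by
    ext ⟨b, hb⟩
    constructor
    · rintro ⟨_, ⟨σ, rfl⟩, hσ⟩
      show b ∈ J ^ (n + 1)
      obtain rfl : φ n (i σ) = b := congrArg Subtype.val hσ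
      rw [← hrange (n + 1)]
      exact ⟨σ, (hi σ).symm⟩
    · intro hb1
      have hb2 : b ∈ LinearMap.range (φ (n + 1)) := by rw [hrange]; exact hb1
      obtain ⟨σ, hσ⟩ := hb2
      exact ⟨i σ, ⟨σ, rfl⟩, Subtype.ext ((hi σ).trans hσ)⟩
  rw [← (W7Cech.gsH0L A _).length_eq,
    ← (LinearMap.quotKerEquivOfSurjective p hp).length_eq]
  exact ((Submodule.quotEquivOfEq _ _ hker).trans (Submodule.Quotient.equiv _ _ e hmap)).length_eq

end Groth.Agent.RatBlow
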