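import Groth.Agent.S7298
import Groth.Agent.KosTwist.Mul
import Groth.Agent.NormGen.Span
import Groth.Agent.StrictRat.Birat
import Groth.Agent.FpqcDescent.IdealGlue
import Groth.Agent.S8914
import Groth.Agent.CurveRR.Multi
import Groth.Agent.Nakai.CartierMul

/-!
Rational singularities: global sections of the powers of `m O_X` on normal modifications.
-/

set_option autoImplicit false
set_option backward.isDefEq.respectTransparency false
set_option backward.isDefEq.respectTransparency.types false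
set_option linter.style.haveILetI false
set_option linter.unusedSectionVars false

universe u

open CategoryTheory CategoryTheory.Limits AlgebraicGeometry TopologicalSpace
open Groth.Agent.QC (res resO res_res resO_resO res_smul res_self app_res mem_range_idealModι_affine)
open TMul (tm IsGen homOf pw)

noncomputable section

namespace Groth.Agent.RatBlow

variable {A : Type u} [CommRing A] {X : Scheme.{u}} (f : X ⟶ Spec (CommRingCat.of A))

/-- An element of the base on an open. -/
def el (U : X.Opens) : A →+* Γ(X, U) := (resO X (le_top : U ≤ ⊤)).comp (Coh.toGlobal f)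

theorem el_res {V U : X.Opens} (h : V ≤ U) (a : A) : resO X h (el f U a) = el f V a :=
  resO_resO h le_top _

theorem resTop_eq (U : X.Opens) (a : A) : Coh.resTop X (Opposite.op U) (Coh.toGlobal f a) = el f U a := rfl

/-- The ideal generated on an affine open. -/
theorem comap_ideal (J : Ideal A) (W : X.affineOpens) :
    ((Curv2.idealSheaf A J).comap f).ideal W = J.map (el f W.1) := by
  rw [FpqcDescent.ideal_comap_appLE (Curv2.idealSheaf A J) f ⟨⊤, isAffineOpen_top _⟩ W le_top,
    show Curv2.idealSheaf A J = Scheme.IdealSheafData.ofIdealTop _ from rfl,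
    Scheme.IdealSheafData.ofIdealTop_ideal]
  simp only [Ideal.map_map]
  refine congrArg (fun φ : A →+* Γ(X, W.1) => J.map φ) ?_
  refine RingHom.ext fun a => ?_
  rfl

theorem pow_ideal (J : Ideal A) (n : ℕ) (W : X.affineOpens) :
    (((Curv2.idealSheaf A J).comap f) ^ n).ideal W = (J ^ n).map (el f W.1) := by
  rw [Scheme.IdealSheafData.ideal_pow, Pi.pow_apply, comap_ideal, Ideal.map_pow]

variable (J : Ideal A)

abbrev idl : X.IdealSheafData := (Curv2.idealSheaf A J).comap f

abbrev L : X.Modules := ClSub.idealMod (idl f J)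

abbrev μ (n : ℕ) : CohB1.tensorPow (L f J) n ⟶ Coh.structureModule X :=
  KosTwist.powι (ClSub.idealModι (idl f J)) n

variable {f J} (hc : BlowUp.IsEffCartierIdeal (idl f J))

include hc

theorem isInvertible_L : PicF.IsInvertible (L f J) := (Groth.Agent.S8914.result _).2 hc

theorem exists_local (x : X) : ∃ (D : X.affineOpens) (e : Γ(L f J, D.1)) (t : Γ(X, D.1)), x ∈ D.1 ∧
    IsGen e ∧ t ∈ nonZeroDivisors Γ(X, D.1) ∧ (idl f J).ideal D = Ideal.span {t} ∧
    KoszSh.secForm (ClSub.idealModι (idl f J)) D.1 e = t := by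
  obtain ⟨U, g, hxU, hg⟩ := TMul.exists_isGen (isInvertible_L hc) x
  obtain ⟨U', hxU', t, ht, hI⟩ := hc x
  obtain ⟨g₀, D', -, hxD, hDle⟩ : ∃ g₀ : Γ(X, U'.1), ∃ D' : X.Opens, D' = X.basicOpen g₀ ∧ x ∈ D' ∧ D' ≤ U := by
    obtain ⟨g₀, hg₀, hx₀⟩ := U'.2.exists_basicOpen_le (⟨x, hxU⟩ : U) hxU'
    exact ⟨g₀, _, rfl, hx₀, hg₀⟩
  obtain ⟨g₁, hg₁, hx₁⟩ := U'.2.exists_basicOpen_le (⟨x, hxD⟩ : D') hxU'
  let D : X.affineOpens := X.affineBasicOpen g₁
  have hDU' : D.1 ≤ U'.1 := X.basicOpen_le g₁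
  have hID : (idl f J).ideal D = Ideal.span {resO X hDU' t} := by
    rw [← (idl f J).map_ideal' (U := D) (V := U') (homOfLE hDU').op, hI, Ideal.map_span, Set.image_singleton]
  have htD : resO X hDU' t ∈ nonZeroDivisors Γ(X, D.1) := by
    haveI := U'.2.isLocalization_basicOpen g₁
    exact IsLocalization.map_nonZeroDivisors_le (Submonoid.powers g₁) Γ(X, X.basicOpen g₁) ⟨t, ht, rfl⟩
  obtain ⟨e, he⟩ := (mem_range_idealModι_affine (idl f J) D (resO X hDU' t)).2
    (hID ▸ Ideal.mem_span_singleton_self _)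
  refine ⟨D, e, resO X hDU' t, hx₁, fun V hV => ?_, htD, hID, he⟩
  -- `e` generates: compare with `g`
  have hgD : IsGen (res (L f J) (hg₁.trans hDle) g) := hg.res _
  obtain ⟨c, hce⟩ := (hgD D.1 le_rfl).2 e
  simp only [res_res] at hce
  have hgt : (show Γ(X, D.1) from (ClSub.idealModι (idl f J)).app D.1 (res (L f J) (hg₁.trans hDle) g)) ∈
      Ideal.span {resO X hDU' t} := by
    rw [← hID]
    exact (mem_range_idealModι_affine (idl f J) D _).1 ⟨_, rfl⟩
  obtain ⟨d, hd⟩ := Ideal.mem_span_singleton'.1 hgt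
  have hcd : c * d = 1 := by
    refine (mul_cancel_right_mem_nonZeroDivisors htD).1 ?_
    rw [mul_assoc, hd, one_mul]
    refine Eq.trans ?_ he
    rw [← hce]
    rw [TMul.app_smul]
    rfl
  have hu : IsUnit (resO X hV c) := (IsUnit.of_mul_eq_one d hcd).map _
  have hb := hgD V hV
  rw [← hce, res_smul]
  obtain ⟨u, hu'⟩ := hu
  rw [← hu']
  refine Function.Bijective.comp (g := fun a : Γ(X, V) => a • res (L f J) hV (res (L f J) (hg₁.trans hDle) g))
    (f := fun a : Γ(X, V) => a * (u : Γ(X, V))) hb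
    (Units.mulRight u).bijective |> fun h => ?_
  convert h using 1
  funext a
  simp [mul_smul]
  rfl

theorem μ_injective (n : ℕ) (U : X.Opens) : Function.Injective (KoszSh.secForm (μ f J n) U) := by
  refine (injective_iff_map_eq_zero _).2 fun σ hσ => Groth.Agent.QC.section_eq_of_locally fun x hx => ?_
  obtain ⟨D, e, t, hxD, he, ht, -, hte⟩ := exists_local hc x
  obtain ⟨g, hg, hxg⟩ := D.2.exists_basicOpen_le (⟨x, hx⟩ : U) hxD
  haveI := D.2.isLocalization_basicOpen g
  let V := X.basicOpen g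
  have hVD : V ≤ D.1 := X.basicOpen_le g
  have heV : IsGen (res (L f J) hVD e) := he.res _
  have htV : resO X hVD t ∈ nonZeroDivisors Γ(X, V) :=
    IsLocalization.map_nonZeroDivisors_le (Submonoid.powers g) Γ(X, X.basicOpen g) ⟨t, ht, rfl⟩
  have hpw : IsGen (pw (res (L f J) hVD e) n) := TMul.isGen_pw heV n
  obtain ⟨c, hcσ⟩ := (hpw V le_rfl).2 (res _ hg σ)
  simp only [res_self] at hcσ
  refine ⟨V, hg, hxg, ?_⟩
  have h0 : KoszSh.secForm (μ f J n) V (res _ hg σ) = 0 := by
    rw [KosExt.secForm_res, hσ, map_zero]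
  rw [← hcσ, map_smul, KosTwist.powι_pw, smul_eq_mul, KosExt.secForm_res, hte] at h0
  have : c = 0 := (mul_right_mem_nonZeroDivisors_eq_zero_iff (pow_mem htV n)).1 h0
  rw [← hcσ, this, zero_smul, map_zero]

/-- The image of `μ` lies in the powers of the ideal. -/
theorem μ_mem (n : ℕ) (σ : Γ(CohB1.tensorPow (L f J) n, ⊤)) (U : X.affineOpens) :
    resO X (le_top : U.1 ≤ ⊤) (KoszSh.secForm (μ f J n) ⊤ σ) ∈ ((idl f J) ^ n).ideal U := by
  rw [← mem_range_idealModι_affine, Groth.Agent.QC.mem_range_idealModι]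
  refine Groth.Agent.QC.section_eq_of_locally (M := ClSub.quotMod ((idl f J) ^ n)) fun x hx => ?_
  obtain ⟨D, e, t, hxD, he, ht, hI, hte⟩ := exists_local hc x
  obtain ⟨g, hg, hxg⟩ := D.2.exists_basicOpen_le (⟨x, hx⟩ : U.1) hxD
  let V : X.affineOpens := X.affineBasicOpen g
  have hVD : V.1 ≤ D.1 := X.basicOpen_le g
  refine ⟨V.1, hg, hxg, ?_⟩
  rw [map_zero]
  refine Eq.trans (app_res (ClSub.toSubscheme ((idl f J) ^ n)) hg _) ?_
  refine (Groth.Agent.QC.mem_range_idealModι _ _ _).1 ((mem_range_idealModι_affine _ V _).2 ?_)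
  change resO X hg (resO X le_top _) ∈ _
  rw [resO_resO]
  have hpw : IsGen (pw (res (L f J) hVD e) n) := TMul.isGen_pw (he.res _) n
  obtain ⟨c, hcσ⟩ := (hpw V.1 le_rfl).2 (res _ le_top σ)
  simp only [res_self] at hcσ
  have h1 : resO X (le_top : V.1 ≤ ⊤) (KoszSh.secForm (μ f J n) ⊤ σ) = c * resO X hVD t ^ n := by
    rw [← KosExt.secForm_res, ← hcσ, map_smul, KosTwist.powι_pw, smul_eq_mul, KosExt.secForm_res, hte]
  change resO X (le_top : V.1 ≤ ⊤) (KoszSh.secForm (μ f J n) ⊤ σ) ∈ ((idl f J) ^ n).ideal V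
  rw [h1, Scheme.IdealSheafData.ideal_pow, Pi.pow_apply]
  refine Ideal.mul_mem_left _ _ (Ideal.pow_mem_pow ?_ n)
  rw [← (idl f J).map_ideal' (U := V) (V := D) (homOfLE hVD).op, hI]
  exact Ideal.mem_map_of_mem _ (Ideal.mem_span_singleton_self t)

/-- Global sections locally divisible by the powers of a generator come from the tensor powers. -/
theorem exists_μ_loc (n : ℕ) (c : Γ(X, ⊤))
    (h : ∀ (U : X.affineOpens) (t : Γ(X, U.1)), (U.1 : Set X).Nonempty → t ∈ nonZeroDivisors Γ(X, U.1) →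
      (idl f J).ideal U = Ideal.span {t} → t ^ n ∣ resO X (le_top : U.1 ≤ ⊤) c) :
    ∃ σ : Γ(CohB1.tensorPow (L f J) n, ⊤), KoszSh.secForm (μ f J n) ⊤ σ = c := by
  choose D e t hxD he ht hI hte using fun x => exists_local hc x
  choose b hb using fun x => Ideal.mem_span_singleton'.1
    (Ideal.mem_span_singleton.2 (h (D x) (t x) ⟨x, hxD x⟩ (ht x) (hI x)))
  let s : ∀ x : X, Γ(CohB1.tensorPow (L f J) n, (D x).1) := fun x => b x • pw (e x) n
  have hs : ∀ x, KoszSh.secForm (μ f J n) (D x).1 (s x) = resO X le_top c := fun x => by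
    simp only [s]
    rw [map_smul, KosTwist.powι_pw, smul_eq_mul, hte x, hb x]
  let T : TopCat.Sheaf Ab X.toTopCat := Coh.toAb (CohB1.tensorPow (L f J) n)
  obtain ⟨σ, hσ, -⟩ := T.existsUnique_gluing' (fun x : X => (D x).1) ⊤ (fun _ => homOfLE le_top)
    (fun x _ => Opens.mem_iSup.2 ⟨x, hxD x⟩) s (fun x y => μ_injective hc n _ (by
      change KoszSh.secForm _ _ (res _ inf_le_left (s x)) = KoszSh.secForm _ _ (res _ inf_le_right (s y))
      rw [KosExt.secForm_res, KosExt.secForm_res, hs x, hs y, resO_resO, resO_resO]))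
  refine ⟨σ, TopCat.Presheaf.IsSheaf.section_ext X.sheaf.2 fun x _ => ⟨(D x).1, le_top, hxD x, ?_⟩⟩
  change resO X le_top _ = resO X le_top c
  rw [← KosExt.secForm_res, show res (CohB1.tensorPow (L f J) n) le_top σ = s x from hσ x, hs x]

/-- Global sections with values in the powers of the ideal come from the tensor powers. -/
theorem exists_μ (n : ℕ) (c : Γ(X, ⊤))
    (h : ∀ U : X.affineOpens, resO X (le_top : U.1 ≤ ⊤) c ∈ ((idl f J) ^ n).ideal U) :
    ∃ σ : Γ(CohB1.tensorPow (L f J) n, ⊤), KoszSh.secForm (μ f J n) ⊤ σ = c :=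
  exists_μ_loc hc n c fun U t _ _ hI => by
    have h' := h U
    rwa [Scheme.IdealSheafData.ideal_pow, Pi.pow_apply, hI, Ideal.span_singleton_pow, Ideal.mem_span_singleton] at h'

end Groth.Agent.RatBlow
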